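import Mathlib
import Groth.Prelude.Def_NonAbH2

/-!
# Torsors of finite connected group schemes over a field
-/

set_option autoImplicit false
set_option backward.isDefEq.respectTransparency false
set_option backward.isDefEq.respectTransparency.types false

universe u

open CategoryTheory MonoidalCategory CartesianMonoidalCategory MonObj AlgebraicGeometry

namespace Groth.ConnFin

variable {K : Type u} [Field K] {G X : Over (Spec (CommRingCat.of K))}

/-- The structure map of an extension field as a scheme over the base field. -/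
noncomputable abbrev pt (K L : Type u) [Field K] [Field L] [Algebra K L] : Over (Spec (CommRingCat.of K)) :=
  Over.mk (Spec.map (CommRingCat.ofHom (algebraMap K L)))

variable [GrpObj G]

/-- A finite connected group has a single point in every field. -/
theorem subsingleton_points [IsFinite G.hom] [ConnectedSpace G.left] (L : Type u) [Field L] [Algebra K L] :
    Subsingleton (pt K L ⟶ G) := by
  have : IsLocallyArtinian G.left := IsLocallyArtinian.of_locallyQuasiFinite G.hom
  have hs : Subsingleton G.left := PreconnectedSpace.trivial_of_discrete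
  let η₀ : Spec (CommRingCat.of K) ⟶ G.left := η[G].left
  let g₀ : G.left := ((Scheme.SpecToEquivOfField K G.left) η₀).1
  obtain ⟨α, hα⟩ := Spec.map_surjective (G.left.fromSpecResidueField g₀ ≫ G.hom)
  let β := ((Scheme.SpecToEquivOfField K G.left) η₀).2
  have hβ : Spec.map β ≫ G.left.fromSpecResidueField g₀ = η₀ :=
    (Scheme.SpecToEquivOfField K G.left).symm_apply_apply η₀
  have hαβ : α ≫ β = 𝟙 _ := by
    apply Spec.map_injective
    rw [Spec.map_comp, hα, ← Category.assoc, hβ, Spec.map_id]
    exact Over.w η[G]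
  have hsurj : Function.Surjective α.hom := fun y => ⟨β.hom y, β.hom.injective (by
    rw [← CommRingCat.comp_apply, hαβ]; rfl)⟩
  refine ⟨fun g g' => ?_⟩
  have key : ∀ g : pt K L ⟶ G, ∃ ψ : G.left.residueField g₀ ⟶ CommRingCat.of L,
      g.left = Spec.map ψ ≫ G.left.fromSpecResidueField g₀ ∧ α ≫ ψ = CommRingCat.ofHom (algebraMap K L) := by
    intro g
    have h : g.left = ((Scheme.SpecToEquivOfField L G.left).symm
        ((Scheme.SpecToEquivOfField L G.left) g.left)) :=
      ((Scheme.SpecToEquivOfField L G.left).symm_apply_apply g.left).symm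
    generalize (Scheme.SpecToEquivOfField L G.left) g.left = q at h
    obtain ⟨x, ψ⟩ := q
    obtain rfl : x = g₀ := Subsingleton.elim _ _
    refine ⟨ψ, h, Spec.map_injective ?_⟩
    rw [Spec.map_comp, hα, ← Category.assoc, ← show g.left = Spec.map ψ ≫ G.left.fromSpecResidueField g₀ from h]
    exact Over.w g
  obtain ⟨ψ, h, hψ⟩ := key g
  obtain ⟨ψ', h', hψ'⟩ := key g'
  have : ψ = ψ' := CommRingCat.hom_ext (RingHom.ext fun y => by
    obtain ⟨c, rfl⟩ := hsurj y
    rw [← CommRingCat.comp_apply, ← CommRingCat.comp_apply, hψ, hψ'])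
  ext : 1
  rw [h, h', this]

/-- A pseudo-torsor has at most one point where the group has one. -/
theorem subsingleton_of_pseudoTorsor (a : AlgGrp.Action G X) (ha : NonAbH1.IsPseudoTorsorSch a)
    (T : Over (Spec (CommRingCat.of K))) [Subsingleton (T ⟶ G)] : Subsingleton (T ⟶ X) := by
  refine ⟨fun x y => ?_⟩
  have : IsIso (lift a.act (snd G X)) := ha
  let w := lift x y ≫ inv (lift a.act (snd G X))
  have h1 : w ≫ a.act = x := by
    rw [Category.assoc, (IsIso.inv_comp_eq _).2 (lift_fst _ _).symm, lift_fst]
  have h2 : w ≫ snd G X = y := by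
    rw [Category.assoc, (IsIso.inv_comp_eq _).2 (lift_snd _ _).symm, lift_snd]
  have h3 : w = lift (toUnit T ≫ η[G]) y := by
    apply CartesianMonoidalCategory.hom_ext
    · rw [lift_fst]; exact Subsingleton.elim _ _
    · rw [lift_snd, h2]
  rw [← h1, h3]
  have h4 : lift (toUnit T ≫ η[G]) y = lift (toUnit T) y ≫ (η[G] ▷ X) := (lift_whiskerRight _ _ _).symm
  rw [h4, Category.assoc, a.one_act, lift_leftUnitor_hom]

omit [GrpObj G] in
/-- A unique point in a finite separable extension is rational. -/
theorem hasSectionOver_of_point (hX : ∀ (L : Type u) [Field L] [Algebra K L], Subsingleton (pt K L ⟶ X))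
    (L : Type u) [Field L] [Algebra K L] [FiniteDimensional K L] [Algebra.IsSeparable K L]
    (x : pt K L ⟶ X) : NonAbH1.HasSectionOver X (𝟙 (Spec (CommRingCat.of K))) := by
  let M := IntermediateField.normalClosure K L (SeparableClosure K)
  let e₀ : L →ₐ[K] SeparableClosure K := IsSepClosed.lift
  let inc : L →ₐ[K] M := e₀.codRestrict M.toSubalgebra fun y =>
    e₀.fieldRange_le_normalClosure ⟨y, rfl⟩
  have : IsGalois K M := IsGalois.normalClosure K L (SeparableClosure K)
  have : FiniteDimensional K M := inferInstance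
  let fM : pt K M ⟶ pt K L := Over.homMk (Spec.map (CommRingCat.ofHom inc.toRingHom)) (by
    show Spec.map _ ≫ Spec.map _ = Spec.map _
    rw [← Spec.map_comp, ← CommRingCat.ofHom_comp]
    congr 2
    exact inc.comp_algebraMap)
  let xM : pt K M ⟶ X := fM ≫ x
  let p := (Scheme.SpecToEquivOfField M X.left) xM.left
  have hp : Spec.map p.2 ≫ X.left.fromSpecResidueField p.1 = xM.left :=
    (Scheme.SpecToEquivOfField M X.left).symm_apply_apply xM.left
  have hfix : ∀ (σ : M ≃ₐ[K] M) (y : X.left.residueField p.1), σ (p.2.hom y) = p.2.hom y := by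
    intro σ y
    let fσ : pt K M ⟶ pt K M := Over.homMk (Spec.map (CommRingCat.ofHom σ.toAlgHom.toRingHom)) (by
      show Spec.map _ ≫ Spec.map _ = Spec.map _
      rw [← Spec.map_comp, ← CommRingCat.ofHom_comp]
      congr 2
      exact σ.toAlgHom.comp_algebraMap)
    let xσ : pt K M ⟶ X := fσ ≫ xM
    have := hX M
    have e : xσ.left = xM.left := congrArg CommaMorphism.left (Subsingleton.elim xσ xM)
    have e' : Spec.map (p.2 ≫ CommRingCat.ofHom σ.toAlgHom.toRingHom) ≫ X.left.fromSpecResidueField p.1 =
        Spec.map p.2 ≫ X.left.fromSpecResidueField p.1 := by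
      rw [Spec.map_comp, Category.assoc, hp]; exact e
    rw [cancel_mono] at e'
    exact congrArg (fun φ => φ.hom y) (Spec.map_injective e')
  have hrange : ∀ y, ∃ c : K, algebraMap K M c = p.2.hom y := fun y =>
    (IsGalois.mem_range_algebraMap_iff_fixed _).2 fun σ => hfix σ y
  choose c hc using hrange
  have inj := (algebraMap K M).injective
  let ψ : X.left.residueField p.1 ⟶ CommRingCat.of K := CommRingCat.ofHom
    { toFun := c
      map_one' := inj (by rw [hc, map_one, map_one])
      map_zero' := inj (by rw [hc, map_zero, map_zero])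
      map_add' := fun y z => inj (by rw [map_add, hc, hc, hc, map_add])
      map_mul' := fun y z => inj (by rw [map_mul, hc, hc, hc, map_mul]) }
  have hψ : ψ ≫ CommRingCat.ofHom (algebraMap K M) = p.2 := CommRingCat.hom_ext (RingHom.ext fun y => hc y)
  refine ⟨Spec.map ψ ≫ X.left.fromSpecResidueField p.1, ?_⟩
  obtain ⟨str', hstr'⟩ := Spec.map_surjective ((Spec.map ψ ≫ X.left.fromSpecResidueField p.1) ≫ X.hom)
  rw [← hstr']
  have h1 : str' ≫ CommRingCat.ofHom (algebraMap K M) = CommRingCat.ofHom (algebraMap K M) := by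
    apply Spec.map_injective
    rw [Spec.map_comp, hstr', ← Category.assoc, ← Category.assoc, ← Spec.map_comp, hψ, hp]
    exact Over.w xM
  have h2 : str' = 𝟙 _ := CommRingCat.hom_ext (RingHom.ext fun a => inj
    (congrArg (fun φ => φ.hom a) h1))
  rw [h2, Spec.map_id]

omit [GrpObj G] in
/-- A covering member with a point: a finite extension in which `X` has a point. -/
theorem exists_point (X : Over (Spec (CommRingCat.of K))) {S' : Scheme.{u}} (f : S' ⟶ Spec (CommRingCat.of K))
    [LocallyOfFiniteType f] (s : S' ⟶ X.left) (hs : s ≫ X.hom = f) (t : S') :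
    ∃ (L : Type u) (_ : Field L) (_ : Algebra K L) (_ : FiniteDimensional K L),
      (Etale f → Algebra.IsSeparable K L) ∧ Nonempty (pt K L ⟶ X) := by
  obtain ⟨_, ⟨V, hV, rfl⟩, htV, -⟩ := S'.isBasis_affineOpens.exists_subset_of_mem_open
    (Set.mem_univ t) isOpen_univ
  obtain ⟨str', hstr'⟩ := Spec.map_surjective (hV.fromSpec ≫ f)
  let := str'.hom.toAlgebra
  have hft : Algebra.FiniteType K Γ(S', V) := by
    have : LocallyOfFiniteType (Spec.map str') := by rw [hstr']; infer_instance
    exact (HasRingHomProperty.Spec_iff (P := @LocallyOfFiniteType)).1 this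
  have : Nontrivial Γ(S', V) := by
    have : Nonempty (Spec Γ(S', V)) := ⟨hV.primeIdealOf ⟨t, htV⟩⟩
    exact PrimeSpectrum.nonempty_iff_nontrivial.1 this
  obtain ⟨m, hm⟩ := Ideal.exists_maximal Γ(S', V)
  let := Ideal.Quotient.field m
  have : FiniteDimensional K (Γ(S', V) ⧸ m) := finite_of_finite_type_of_isJacobsonRing K _
  refine ⟨Γ(S', V) ⧸ m, inferInstance, inferInstance, inferInstance, fun he => ?_, ⟨?_⟩⟩
  · have he' : Etale (Spec.map str') := by rw [hstr']; infer_instance
    have : Algebra.Etale K Γ(S', V) := (HasRingHomProperty.Spec_iff (P := @Etale)).1 he'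
    have : Algebra.FormallyUnramified K (Γ(S', V) ⧸ m) :=
      Algebra.FormallyUnramified.comp K Γ(S', V) _
    exact Algebra.FormallyUnramified.isSeparable K _
  · refine Over.homMk (Spec.map (CommRingCat.ofHom (Ideal.Quotient.mk m)) ≫ hV.fromSpec ≫ s) ?_
    show (Spec.map (CommRingCat.ofHom (Ideal.Quotient.mk m)) ≫ hV.fromSpec ≫ s) ≫ X.hom = Spec.map _
    rw [Category.assoc, Category.assoc, hs, ← hstr', ← Spec.map_comp]
    rfl

omit [GrpObj G] in
/-- A member of a covering of the point is inhabited. -/
theorem exists_mem_presieve {P : MorphismProperty Scheme.{u}} {R : Presieve (Spec (CommRingCat.of K))}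
    (hR : R ∈ Scheme.precoverage P (Spec (CommRingCat.of K))) :
    ∃ (S' : Scheme.{u}) (f : S' ⟶ Spec (CommRingCat.of K)), R f ∧ P f ∧ Nonempty S' := by
  obtain ⟨Y, g, hg, y, -⟩ := hR.1 (IsLocalRing.closedPoint K)
  obtain @⟨S', f, hf⟩ := hg
  exact ⟨S', f, hf, hR.2 hf, ⟨y⟩⟩

end Groth.ConnFin
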