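import Mathlib
import Groth.Prelude.Def_NonAbH2
import Groth.Agent.ConnFin.Basic

/-!
# Torsors of finite connected group schemes: the residue field of the point is
purely inseparable of degree at most the order of the group
-/

set_option autoImplicit false
set_option backward.isDefEq.respectTransparency false
set_option backward.isDefEq.respectTransparency.types false

universe u

open CategoryTheory MonoidalCategory CartesianMonoidalCategory MonObj AlgebraicGeometry TensorProduct

namespace Groth.ConnFin

variable {K : Type u} [Field K] {G X : Over (Spec (CommRingCat.of K))}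

/-- An affine scheme over the base field. -/
noncomputable abbrev sp (K A : Type u) [Field K] [CommRing A] [Algebra K A] : Over (Spec (CommRingCat.of K)) :=
  Over.mk (Spec.map (CommRingCat.ofHom (algebraMap K A)))

/-- The product of two affine schemes over a field. -/
noncomputable def spTensor (K A B : Type u) [Field K] [CommRing A] [Algebra K A] [CommRing B] [Algebra K B] :
    sp K A ⊗ sp K B ≅ sp K (A ⊗[K] B) :=
  Over.isoMk (pullbackSpecIso K A B) (pullbackSpecIso_hom_base K A B)

/-- A monomorphism of finite affine schemes over a field does not raise the dimension. -/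
theorem finrank_le_of_mono {A B : Type u} [CommRing A] [Algebra K A] [CommRing B] [Algebra K B]
    [Module.Finite K A] [Module.Finite K B] (m : sp K B ⟶ sp K A) [Mono m] :
    Module.finrank K B ≤ Module.finrank K A := by
  obtain ⟨ψ, hψ⟩ := Spec.map_surjective m.left
  have hw : ψ.hom.comp (algebraMap K A) = algebraMap K B := by
    have h : Spec.map ψ ≫ (sp K A).hom = (sp K B).hom := by rw [hψ]; exact Over.w m
    erw [← Spec.map_comp] at h
    exact congrArg CommRingCat.Hom.hom (Spec.map_injective h)
  have : IsFinite (sp K B).hom := (IsFinite.SpecMap_iff _).2 (RingHom.finite_algebraMap.2 inferInstance)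
  have : IsFinite (m.left ≫ (sp K A).hom) := by rw [Over.w m]; infer_instance
  have : IsSeparated (sp K A).hom := by
    show IsSeparated (Spec.map _)
    infer_instance
  have : IsFinite m.left := IsFinite.of_comp m.left (sp K A).hom
  have hm : IsClosedImmersion m.left := (IsClosedImmersion.iff_isFinite_and_mono _).2 ⟨this, inferInstance⟩
  rw [← hψ] at hm
  change IsClosedImmersion (X := Spec (CommRingCat.of B)) (Y := Spec (CommRingCat.of A)) (Spec.map ψ) at hm
  have hs : Function.Surjective ψ.hom := by
    have h2 := (HasAffineProperty.iff_of_isAffine (P := @IsClosedImmersion)).1 hm |>.2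
    have e : ψ = (Scheme.ΓSpecIso _).inv ≫ (Spec.map ψ).appTop ≫ (Scheme.ΓSpecIso _).hom := by
      rw [Scheme.ΓSpecIso_naturality, Iso.inv_hom_id_assoc]
    rw [e]
    exact ((ConcreteCategory.bijective_of_isIso (Scheme.ΓSpecIso _).hom).2.comp h2).comp
      (ConcreteCategory.bijective_of_isIso (Scheme.ΓSpecIso _).inv).2
  let f : A →ₐ[K] B := { ψ.hom with commutes' := fun c => congrArg (fun φ => φ c) hw }
  exact LinearMap.finrank_le_finrank_of_surjective (f := f.toLinearMap) hs

variable [GrpObj G]

/-- The self-product of a subobject of a pseudo-torsor embeds in its product with the group. -/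
theorem exists_mono_of_pseudoTorsor (a : AlgGrp.Action G X) (ha : NonAbH1.IsPseudoTorsorSch a)
    {Z : Over (Spec (CommRingCat.of K))} (j : Z ⟶ X) [Mono j] : ∃ m : Z ⊗ Z ⟶ G ⊗ Z, Mono m := by
  have : IsIso (lift a.act (snd G X)) := ha
  let w := lift (fst Z Z ≫ j) (snd Z Z ≫ j) ≫ inv (lift a.act (snd G X))
  have h1 : w ≫ a.act = fst Z Z ≫ j := by
    rw [Category.assoc, (IsIso.inv_comp_eq _).2 (lift_fst _ _).symm, lift_fst]
  have h2 : w ≫ snd G X = snd Z Z ≫ j := by
    rw [Category.assoc, (IsIso.inv_comp_eq _).2 (lift_snd _ _).symm, lift_snd]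
  clear_value w
  refine ⟨lift (w ≫ fst G X) (snd Z Z), ⟨fun {T} u v h => ?_⟩⟩
  have hd := congrArg (· ≫ fst _ _) h
  have hr := congrArg (· ≫ snd _ _) h
  simp only [Category.assoc, lift_fst, lift_snd] at hd hr
  have hw : u ≫ w = v ≫ w := by
    apply CartesianMonoidalCategory.hom_ext
    · rw [Category.assoc, Category.assoc]; exact hd
    · rw [Category.assoc, Category.assoc, h2, ← Category.assoc, hr, Category.assoc]
  apply CartesianMonoidalCategory.hom_ext _ _ ?_ hr
  rw [← cancel_mono j, Category.assoc, Category.assoc, ← h1, ← Category.assoc, hw, Category.assoc]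

/-- The order of a finite group scheme bounds the degree of any field embedded in a pseudo-torsor. -/
theorem finrank_le_of_pseudoTorsor {A : Type u} [CommRing A] [Algebra K A] [Module.Finite K A]
    (e : G ≅ sp K A) (a : AlgGrp.Action G X) (ha : NonAbH1.IsPseudoTorsorSch a)
    (L : Type u) [Field L] [Algebra K L] [FiniteDimensional K L] (j : sp K L ⟶ X) [Mono j] :
    Module.finrank K L ≤ Module.finrank K A := by
  obtain ⟨m, hm⟩ := exists_mono_of_pseudoTorsor a ha j
  let i : G ⊗ sp K L ≅ sp K (A ⊗[K] L) := whiskerRightIso e _ ≪≫ spTensor K A L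
  have h := finrank_le_of_mono ((spTensor K L L).inv ≫ m ≫ i.hom)
  rw [Module.finrank_tensorProduct, Module.finrank_tensorProduct] at h
  exact Nat.le_of_mul_le_mul_right h Module.finrank_pos

/-- A purely inseparable extension of degree at most `N` is killed by the `N`th Frobenius. -/
theorem exists_frobenius_section (K L : Type u) [Field K] [Field L] [Algebra K L] [FiniteDimensional K L]
    [IsPurelyInseparable K L] (p : ℕ) [ExpChar K p] (N : ℕ) (hN : Module.finrank K L ≤ N) :
    ∃ φ : L →+* K, φ.comp (algebraMap K L) = iterateFrobenius K p N := by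
  have key : ∀ y : L, y ^ p ^ N ∈ (algebraMap K L).range := fun y => by
    obtain ⟨k, c, hk⟩ := IsPurelyInseparable.minpoly_eq_X_pow_sub_C K p y
    have hy : algebraMap K L c = y ^ p ^ k := by
      have := minpoly.aeval K y
      rw [hk] at this
      simp only [map_sub, map_pow, Polynomial.aeval_X, Polynomial.aeval_C] at this
      exact (sub_eq_zero.1 this).symm
    have hp0 : 1 ≤ p := expChar_pos K p
    rcases eq_or_lt_of_le hp0 with hp | hp
    · refine ⟨c, ?_⟩
      rw [hy, ← hp, one_pow, one_pow]
    · have hd : p ^ k ≤ N := by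
        refine le_trans ?_ ((minpoly.natDegree_le y).trans hN)
        rw [hk, Polynomial.natDegree_X_pow_sub_C]
      refine ⟨c ^ p ^ (N - k), ?_⟩
      rw [map_pow, hy, ← pow_mul, ← pow_add, Nat.add_sub_cancel' ((Nat.lt_pow_self hp).le.trans hd)]
  have inj := (algebraMap K L).injective
  have : ExpChar L p := expChar_of_injective_ringHom inj p
  choose c hc using key
  refine ⟨
    { toFun := c
      map_one' := inj (by rw [hc, map_one, one_pow])
      map_zero' := inj (by rw [hc, map_zero, zero_pow (expChar_pow_pos K p N).ne'])
      map_add' := fun y z => inj (by rw [map_add, hc, hc, hc, add_pow_expChar_pow])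
      map_mul' := fun y z => inj (by rw [map_mul, hc, hc, hc, mul_pow]) }, ?_⟩
  ext y
  exact inj ((hc _).trans (by rw [iterateFrobenius_def, map_pow]))

/-- The residue field of a finite point of a scheme without multiple field valued points. -/
theorem exists_purelyInseparable_mono
    (hX : ∀ (L : Type u) [Field L] [Algebra K L], Subsingleton (pt K L ⟶ X))
    (L : Type u) [Field L] [Algebra K L] [FiniteDimensional K L] (x : pt K L ⟶ X) :
    ∃ (F : Type u) (_ : Field F) (_ : Algebra K F),
      FiniteDimensional K F ∧ IsPurelyInseparable K F ∧ ∃ j : sp K F ⟶ X, Mono j := by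
  let q := (Scheme.SpecToEquivOfField L X.left) x.left
  have hq : Spec.map q.2 ≫ X.left.fromSpecResidueField q.1 = x.left :=
    (Scheme.SpecToEquivOfField L X.left).symm_apply_apply x.left
  let F : Type u := X.left.residueField q.1
  obtain ⟨α, hα⟩ := Spec.map_surjective (X.left.fromSpecResidueField q.1 ≫ X.hom)
  let alg : Algebra K F := α.hom.toAlgebra
  let ψ : F →ₐ[K] L :=
    { q.2.hom with
      commutes' := fun c => by
        have h : α ≫ q.2 = CommRingCat.ofHom (algebraMap K L) := by
          apply Spec.map_injective
          rw [Spec.map_comp, hα, ← Category.assoc, hq]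
          exact Over.w x
        exact congrArg (fun φ => φ.hom c) h }
  have : FiniteDimensional K F := Module.Finite.of_injective ψ.toLinearMap ψ.toRingHom.injective
  let j : sp K F ⟶ X := Over.homMk (X.left.fromSpecResidueField q.1) hα.symm
  have : Mono j.left := by
    show Mono (X.left.fromSpecResidueField q.1)
    infer_instance
  refine ⟨F, inferInstance, alg, ‹_›, ?_, j, Over.mono_of_mono_left j⟩
  rw [isPurelyInseparable_iff_subsingleton_emb]
  refine ⟨fun σ τ => AlgHom.coe_ringHom_injective ?_⟩
  have := hX (AlgebraicClosure F)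
  let mkPt (σ : F →ₐ[K] AlgebraicClosure F) : pt K (AlgebraicClosure F) ⟶ sp K F :=
    Over.homMk (Spec.map (CommRingCat.ofHom σ.toRingHom)) (by
      show Spec.map _ ≫ Spec.map _ = Spec.map _
      rw [← Spec.map_comp, ← CommRingCat.ofHom_comp]
      congr 2
      exact σ.comp_algebraMap)
  have h := congrArg CommaMorphism.left (Subsingleton.elim (mkPt σ ≫ j) (mkPt τ ≫ j))
  simp only [Over.comp_left] at h
  rw [cancel_mono] at h
  exact congrArg CommRingCat.Hom.hom (Spec.map_injective h)

end Groth.ConnFin
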